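import Groth.Agent.FibDimLib.ClosureDim
import Groth.Agent.FibDimLib.Pure
import Groth.Agent.FibDimLib.Formula

/-! The dimension of the zero locus of a function on a scheme of finite type over a field. -/

set_option autoImplicit false
set_option linter.style.haveILetI false

universe u

open CategoryTheory AlgebraicGeometry TopologicalSpace Topology

namespace ZeroDim

attribute [local instance] specializationOrder

theorem add_one_le {a b : WithBot ℕ∞} (h : ∀ n : ℕ, (n : WithBot ℕ∞) ≤ a → ((n + 1 : ℕ) : WithBot ℕ∞) ≤ b) :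
    a + 1 ≤ b := by
  induction a with
  | bot => simp
  | coe a =>
    induction a with
    | top =>
      have hb : b = ⊤ := by
        by_contra hb
        induction b with
        | bot => exact absurd (h 0 le_top) (by simp)
        | coe b =>
          induction b with
          | top => exact hb rfl
          | coe m => exact absurd (WithBot.coe_le_coe.1 (show (((m + 1 : ℕ) : ℕ∞) : WithBot ℕ∞) ≤ ((m : ℕ∞) : WithBot ℕ∞) from h m le_top)) (fun h' => absurd (ENat.natCast_le_natCast.1 h') (by omega))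
      simp [hb]
    | coe m =>
      refine le_trans (le_of_eq ?_) (h m le_rfl)
      push_cast
      rfl

variable {k : Type u} [Field k] {X : Scheme.{u}} (p : X ⟶ Spec (CommRingCat.of k)) [LocallyOfFiniteType p]

include p in
theorem noetherian (U : X.affineOpens) : ∃ a : Algebra k Γ(X, U.1), @Algebra.FiniteType k Γ(X, U.1) _ _ a := by
  obtain ⟨φ, hφ⟩ : ∃ φ : CommRingCat.of k ⟶ Γ(X, U.1), Spec.map φ = U.2.fromSpec ≫ p := Spec.map_surjective _
  letI := φ.hom.toAlgebra
  exact ⟨φ.hom.toAlgebra, RingHom.finiteType_algebraMap.mp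
    ((HasRingHomProperty.Spec_iff (P := @LocallyOfFiniteType)).mp
      (hφ ▸ (inferInstance : LocallyOfFiniteType (U.2.fromSpec ≫ p))))⟩

theorem fromSpec_mem_zeroLocus (f : Γ(X, ⊤)) {U : X.Opens} (hU : IsAffineOpen U) (Q : PrimeSpectrum Γ(X, U)) :
    hU.fromSpec Q ∈ X.zeroLocus (U := ⊤) {f} ↔
      X.presheaf.map (homOfLE (le_top : U ≤ ⊤)).op f ∈ Q.asIdeal := by
  rw [Scheme.zeroLocus_singleton, Set.mem_compl_iff, SetLike.mem_coe]
  have h1 : hU.fromSpec Q ∈ U := hU.opensRange_fromSpec.le ⟨Q, rfl⟩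
  have h2 := hU.fromSpec_preimage_basicOpen (X.presheaf.map (homOfLE (le_top : U ≤ ⊤)).op f)
  have h3 : Q ∈ hU.fromSpec ⁻¹ᵁ X.basicOpen (X.presheaf.map (homOfLE (le_top : U ≤ ⊤)).op f) ↔
      Q ∈ PrimeSpectrum.basicOpen (X.presheaf.map (homOfLE (le_top : U ≤ ⊤)).op f) := by rw [h2]; rfl
  rw [Scheme.basicOpen_res] at h3
  rw [← not_iff_not, not_not]
  exact ⟨fun h => h3.1 ⟨h1, h⟩, fun h => (h3.2 h).2⟩

include p in
/-- Every zero of a function with nowhere dense zero locus has a generization outside the zero locus. -/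
theorem exists_generization (f : Γ(X, ⊤)) (hY : interior (X.zeroLocus (U := ⊤) {f}) = ∅) {y : X}
    (hy : y ∈ X.zeroLocus (U := ⊤) {f}) : ∃ η : X, η ⤳ y ∧ η ∉ X.zeroLocus (U := ⊤) {f} := by
  classical
  obtain ⟨_, ⟨U, hU, rfl⟩, hyU, -⟩ :=
    X.isBasis_affineOpens.exists_subset_of_mem_open (Set.mem_univ y) isOpen_univ
  obtain ⟨inst, hft⟩ := noetherian p ⟨U, hU⟩
  letI := inst
  haveI : Algebra.FiniteType k Γ(X, U) := hft
  haveI : IsNoetherianRing Γ(X, U) := Algebra.FiniteType.isNoetherianRing k _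
  obtain ⟨P, hP, hPy⟩ := Ideal.exists_minimalPrimes_le (I := (⊥ : Ideal Γ(X, U)))
    (J := (hU.primeIdealOf ⟨y, hyU⟩).asIdeal) bot_le
  refine ⟨hU.fromSpec ⟨P, hP.1.1⟩, ?_, ?_⟩
  · have := ((PrimeSpectrum.le_iff_specializes ⟨P, hP.1.1⟩ (hU.primeIdealOf ⟨y, hyU⟩)).1 hPy).map
      hU.fromSpec.continuous
    rwa [hU.fromSpec_primeIdealOf] at this
  · rw [fromSpec_mem_zeroLocus]
    intro hfP
    have hfin : {P' : Ideal Γ(X, U) | P' ∈ (⊥ : Ideal Γ(X, U)).minimalPrimes ∧ P' ≠ P}.Finite :=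
      (Ideal.finite_minimalPrimes_of_isNoetherianRing _ ⊥).subset fun _ h => h.1
    have hg : ∀ P' ∈ hfin.toFinset, ∃ g ∈ P', g ∉ P := fun P' hP' => by
      obtain ⟨h1, h2⟩ := hfin.mem_toFinset.1 hP'
      exact SetLike.not_le_iff_exists.1 fun h => h2 (le_antisymm h (hP.2 h1.1 h))
    choose g hg hgP using hg
    set G := ∏ P' ∈ hfin.toFinset.attach, g P'.1 P'.2 with hG
    haveI := hP.1.1
    have hGP : G ∉ P := fun h => by
      obtain ⟨x, -, hx⟩ := (Ideal.IsPrime.prod_mem_iff (p := P)).1 h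
      exact hgP _ _ hx
    have hopen : IsOpen (hU.fromSpec '' (PrimeSpectrum.basicOpen G : Set (PrimeSpectrum Γ(X, U)))) :=
      hU.fromSpec.isOpenEmbedding.isOpenMap _ (PrimeSpectrum.basicOpen G).isOpen
    have hsub : hU.fromSpec '' (PrimeSpectrum.basicOpen G : Set (PrimeSpectrum Γ(X, U))) ⊆
        X.zeroLocus (U := ⊤) {f} := by
      rintro _ ⟨Q, hQ, rfl⟩
      rw [fromSpec_mem_zeroLocus]
      obtain ⟨P', hP', hP'Q⟩ := Ideal.exists_minimalPrimes_le (I := (⊥ : Ideal Γ(X, U))) (J := Q.asIdeal) bot_le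
      by_cases h : P' = P
      · exact hP'Q (h ▸ hfP)
      · refine absurd ?_ hQ
        have hm : P' ∈ hfin.toFinset := hfin.mem_toFinset.2 ⟨hP', h⟩
        rw [hG, ← Finset.mul_prod_erase hfin.toFinset.attach (fun x => g x.1 x.2) (Finset.mem_attach _ ⟨P', hm⟩)]
        exact Ideal.mul_mem_right _ _ (hP'Q (hg P' hm))
    have := interior_maximal hsub hopen ⟨⟨P, hP.1.1⟩, hGP, rfl⟩
    rw [hY] at this
    exact this

include p in
theorem dim_add_one_le (f : Γ(X, ⊤)) (hY : interior (X.zeroLocus (U := ⊤) {f}) = ∅) :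
    topologicalKrullDim (X.zeroLocus (U := ⊤) {f}) + 1 ≤ topologicalKrullDim X := by
  have hclosed : IsClosed (X.zeroLocus (U := ⊤) {f}) := by
    rw [Scheme.zeroLocus_singleton]
    exact (X.basicOpen f).isOpen.isClosed_compl
  haveI : QuasiSober (X.zeroLocus (U := ⊤) {f}) := hclosed.isClosedEmbedding_subtypeVal.quasiSober
  refine add_one_le fun n hn => ?_
  obtain ⟨c, hci, hc⟩ := FibDimLib.exists_specChain hn
  obtain ⟨η, hη, hηY⟩ := exists_generization p f hY (c 0).2
  refine FibDimLib.IsSpecChain.le_topologicalKrullDim (c := Fin.cons η fun i => (c i).1) ⟨?_, ?_⟩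
  · exact Fin.cons_injective_iff.2
      ⟨fun ⟨i, hi⟩ => hηY ((show (c i).1 = η from hi) ▸ (c i).2), Subtype.val_injective.comp hci⟩
  · intro i j hij
    cases j using Fin.cases with
    | zero => rw [Fin.le_zero_iff.1 hij]
    | succ j =>
      cases i using Fin.cases with
      | zero =>
        simp only [Fin.cons_zero, Fin.cons_succ]
        exact hη.trans ((hc 0 j (Fin.zero_le _)).map continuous_subtype_val)
      | succ i =>
        simp only [Fin.cons_succ]
        exact (hc i j (Fin.succ_le_succ_iff.1 hij)).map continuous_subtype_val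

include p in
theorem le_dim_add_one (f : Γ(X, ⊤)) (hY : interior (X.zeroLocus (U := ⊤) {f}) = ∅)
    {Z : Set X} (hZ : Z ∈ irreducibleComponents X) (hZY : (Z ∩ X.zeroLocus (U := ⊤) {f}).Nonempty) :
    topologicalKrullDim Z ≤ topologicalKrullDim (X.zeroLocus (U := ⊤) {f}) + 1 := by
  have hclosed : IsClosed (X.zeroLocus (U := ⊤) {f}) := by
    rw [Scheme.zeroLocus_singleton]
    exact (X.basicOpen f).isOpen.isClosed_compl
  obtain ⟨η, hη⟩ := QuasiSober.sober hZ.1 (isClosed_of_mem_irreducibleComponents Z hZ)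
  have hηY : η ∉ X.zeroLocus (U := ⊤) {f} := fun h => by
    obtain ⟨η', h', hη'⟩ := exists_generization p f hY h
    have h1 : Z ⊆ closure {η'} := hη ▸ closure_minimal (Set.singleton_subset_iff.2 h'.mem_closure) isClosed_closure
    have h2 : closure {η'} ⊆ Z := hZ.2 isIrreducible_singleton.closure h1
    refine hη' ((Specializes.mem_closed ?_ hclosed h))
    rw [specializes_iff_mem_closure, hη]
    exact h2 (subset_closure rfl)
  obtain ⟨y, hyZ, hyY⟩ := hZY
  obtain ⟨_, ⟨U, hU, rfl⟩, hyU, -⟩ :=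
    X.isBasis_affineOpens.exists_subset_of_mem_open (Set.mem_univ y) isOpen_univ
  have hsp : η ⤳ y := specializes_iff_mem_closure.2 (by rw [hη]; exact hyZ)
  have hηU : η ∈ U := hsp.mem_open U.isOpen hyU
  obtain ⟨inst, hft⟩ := noetherian p ⟨U, hU⟩
  letI := inst
  haveI : Algebra.FiniteType k Γ(X, U) := hft
  haveI : IsNoetherianRing Γ(X, U) := Algebra.FiniteType.isNoetherianRing k _
  set P := (hU.primeIdealOf ⟨η, hηU⟩).asIdeal with hP
  set g : Γ(X, U) := X.presheaf.map (homOfLE (le_top : U ≤ ⊤)).op f with hg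
  have hgP : g ∉ P := fun h => hηY (by
    have := (fromSpec_mem_zeroLocus f hU (hU.primeIdealOf ⟨η, hηU⟩)).2 h
    rwa [hU.fromSpec_primeIdealOf] at this)
  have hgy : g ∈ (hU.primeIdealOf ⟨y, hyU⟩).asIdeal := by
    apply (fromSpec_mem_zeroLocus f hU (hU.primeIdealOf ⟨y, hyU⟩)).1
    rw [hU.fromSpec_primeIdealOf]
    exact hyY
  have hPy : P ≤ (hU.primeIdealOf ⟨y, hyU⟩).asIdeal := (UOpenLib.primeIdealOf_le_iff hU hηU hyU).mpr hsp
  haveI : IsDomain (Γ(X, U) ⧸ P) := Ideal.Quotient.isDomain _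
  haveI : Algebra.FiniteType k (Γ(X, U) ⧸ P) := Algebra.FiniteType.of_surjective (Ideal.Quotient.mkₐ k P) Ideal.Quotient.mk_surjective
  have hmapy : ((hU.primeIdealOf ⟨y, hyU⟩).asIdeal.map (Ideal.Quotient.mk P)).IsPrime :=
    Ideal.map_isPrime_of_surjective Ideal.Quotient.mk_surjective (by rw [Ideal.mk_ker]; exact hPy)
  haveI := hmapy
  obtain ⟨q, hq, hqy⟩ := Ideal.exists_minimalPrimes_le (I := Ideal.span {Ideal.Quotient.mk P g})
    (J := (hU.primeIdealOf ⟨y, hyU⟩).asIdeal.map (Ideal.Quotient.mk P))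
    (Ideal.span_le.2 (Set.singleton_subset_iff.2 (Ideal.mem_map_of_mem _ hgy)))
  haveI := hq.1.1
  have hq1 : q.height ≤ 1 := Ideal.height_le_one_of_isPrincipal_of_mem_minimalPrimes _ _ hq
  have hsum := FibDimLib.ringKrullDim_quotient_add_height_affine k (Γ(X, U) ⧸ P) q
  let Q : PrimeSpectrum Γ(X, U) := ⟨q.comap (Ideal.Quotient.mk P), Ideal.IsPrime.comap _⟩
  set z := hU.fromSpec Q with hzdef
  have hzU : z ∈ U := hU.opensRange_fromSpec.le ⟨Q, rfl⟩
  have hzQ : hU.primeIdealOf ⟨z, hzU⟩ = Q :=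
    hU.fromSpec.isOpenEmbedding.injective (hU.fromSpec_primeIdealOf ⟨z, hzU⟩)
  have hzY : z ∈ X.zeroLocus (U := ⊤) {f} :=
    (fromSpec_mem_zeroLocus f hU Q).2 (hq.1.2 (Ideal.mem_span_singleton_self _))
  have e : ringKrullDim ((Γ(X, U) ⧸ P) ⧸ q) = ringKrullDim (Γ(X, U) ⧸ Q.asIdeal) :=
    ringKrullDim_eq_of_ringEquiv ((Ideal.quotEquivOfEq
      (show q = Q.asIdeal.map (Ideal.Quotient.mk P) from
        (Ideal.map_comap_of_surjective _ Ideal.Quotient.mk_surjective q).symm)).trans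
      (DoubleQuot.quotQuotEquivQuotOfLE (show P ≤ Q.asIdeal from fun x hx => by
        show Ideal.Quotient.mk P x ∈ q
        rw [Ideal.Quotient.eq_zero_iff_mem.2 hx]; exact zero_mem _)))
  have hle : topologicalKrullDim (closure ({z} : Set X)) ≤ topologicalKrullDim (X.zeroLocus (U := ⊤) {f}) := by
    have hs : closure ({z} : Set X) ⊆ X.zeroLocus (U := ⊤) {f} :=
      closure_minimal (Set.singleton_subset_iff.2 hzY) hclosed
    exact Topology.IsInducing.topologicalKrullDim_le (Topology.IsEmbedding.inclusion hs).isInducing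
  rw [← hη, FibDimLib.topologicalKrullDim_closure_eq_affine p hU hηU, ← hsum, e]
  refine add_le_add ?_ (by exact_mod_cast hq1)
  refine le_trans (le_of_eq ?_) hle
  rw [FibDimLib.topologicalKrullDim_closure_eq_affine p hU hzU, hzQ]

end ZeroDim
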